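import Groth.Agent.Lib.DerivedOX.AffinePush
import Groth.Agent.Lib.DerivedOX.RpushAcyclic
import Groth.Agent.Lib.DerivedOX.RpushQCoh

/-! # Affine direct images detect single cohomology sheaves -/

universe u

open CategoryTheory Limits AlgebraicGeometry Pretriangulated DerivedCategory

attribute [local instance] HasDerivedCategory.standard

namespace Groth.Agent.H83.BdPts

open Groth.Agent.Lib Groth.Agent.Lib.DerivedOX Groth.Agent.Lib.SpecSeq.RightHom
  Groth.Agent.Lib.SpecSeq.AcyclicComplex Groth.Agent.Lib.WayOut.Bounded Groth.Agent.Lib.WayOut.Scheme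
  Groth.Agent.Lib.DerCat.TStruct

variable {X S : Scheme.{u}}

/-- No derived sections in a degree where the cohomology sheaf vanishes. -/
lemma isZero_RH_sect_of_isZero (W : X.Opens) (hW : IsAffineOpen W) (Z : DCoh.D X)
    (hZ : DCoh.IsQCohD Z) (k : ℤ) (h : IsZero ((homologyFunctor _ k).obj Z)) :
    IsZero ((RH (sect W) k).obj Z) := by
  have hT := TStructure.t.triangleLTGE_distinguished k Z
  let Z' := (TStructure.t.truncLT k).obj Z
  let W' := (TStructure.t.truncGE k).obj Z
  have hlt : Z'.IsLE (k - 1) := (inferInstance : TStructure.t.IsLE Z' (k - 1))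
  have hge : W'.IsGE k := (inferInstance : TStructure.t.IsGE W' k)
  have z1 : IsZero ((RH (sect W) k).obj Z') :=
    WayOut.Holim.isZero_RH (detects _) (sect W) (van_sect_affine hW) Z'
      (hasP_truncLT (P := qc _) hZ k) (k - 1) k (by lia)
  have hge' : W'.IsGE (k + 1) := by
    rw [isGE_iff]
    intro i hi
    rcases lt_or_eq_of_le (show i ≤ k by lia) with hlt' | rfl
    · exact isZero_of_isGE W' k i hlt'
    · exact h.of_iso (@asIso _ _ _ _ _ (isIso_homologyMap_truncGEπ Z i i le_rfl)).symm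
  exact ((RH0 (sect W)).homologySequence_exact₂ _ hT k).isZero_X₂
    (z1.eq_of_src _ _) ((isZero_RH_of_isGE (sect W) W' (k + 1) k (by lia)).eq_of_tgt _ _)

/-- Without derived sections over an affine open, no cohomology sheaf has sections there. -/
lemma isZero_sect_of_RH (W : X.Opens) (hW : IsAffineOpen W) (Z : DCoh.D X)
    (hZ : DCoh.IsQCohD Z) (k : ℤ) (h : IsZero ((RH (sect W) k).obj Z)) :
    IsZero ((sect W).obj ((homologyFunctor _ k).obj Z)) := by
  have hT := TStructure.t.triangleLTGE_distinguished k Z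
  let Z' := (TStructure.t.truncLT k).obj Z
  let W' := (TStructure.t.truncGE k).obj Z
  have hlt : Z'.IsLE (k - 1) := (inferInstance : TStructure.t.IsLE Z' (k - 1))
  have hW' : W'.IsGE k := (inferInstance : TStructure.t.IsGE W' k)
  have z1 : IsZero ((RH (sect W) (k + 1)).obj Z') :=
    WayOut.Holim.isZero_RH (detects _) (sect W) (van_sect_affine hW) Z'
      (hasP_truncLT (P := qc _) hZ k) (k - 1) (k + 1) (by lia)
  have zW : IsZero ((RH (sect W) k).obj W') :=
    ((RH0 (sect W)).homologySequence_exact₃ _ hT k (k + 1) rfl).isZero_X₂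
      (h.eq_of_src _ _) (z1.eq_of_tgt _ _)
  have hT' := TStructure.t.triangleLTGE_distinguished (k + 1) W'
  let U := (TStructure.t.truncLT (k + 1)).obj W'
  let V := (TStructure.t.truncGE (k + 1)).obj W'
  have hV : V.IsGE (k + 1) := (inferInstance : TStructure.t.IsGE V (k + 1))
  have hU : U.IsLE k := by
    have : TStructure.t.IsLE U (k + 1 - 1) := inferInstance
    simpa using this
  have hU' : U.IsGE k := isGE_truncLT W' (k + 1) k
  have zV : IsZero ((RH (sect W) (k - 1)).obj V) :=
    isZero_RH_of_isGE (sect W) V (k + 1) (k - 1) (by lia)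
  have zU : IsZero ((RH (sect W) k).obj U) :=
    ((RH0 (sect W)).homologySequence_exact₁ _ hT' (k - 1) k (by lia)).isZero_X₂
      (zV.eq_of_src _ _) (zW.eq_of_tgt _ _)
  obtain ⟨M, ⟨e⟩⟩ := exists_iso_singleFunctor_obj_of_isGE_of_isLE U k
  have eM : (homologyFunctor _ k).obj Z ≅ M :=
    @asIso _ _ _ _ _ (isIso_homologyMap_truncGEπ Z k k le_rfl) ≪≫
      (@asIso _ _ _ _ _ (isIso_homologyMap_truncLTι W' (k + 1) k (by lia))).symm ≪≫
      (homologyFunctor _ k).mapIso e ≪≫ (singleFunctorCompHomologyFunctorIso _ k).app M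
  have z0 : IsZero (RS (sect W) (k - k) M) :=
    zU.of_iso ((RH (sect W) k).mapIso (e ≪≫
      (((DerivedCategory.singleFunctors _).shiftIso (-k) k 0 (by lia)).app M).symm) ≪≫
      ((RH0 (sect W)).shiftIso (-k) k (k - k) (by lia)).app _).symm
  rw [sub_self] at z0
  have := isIso_cmp_single (sect W) M
  have z0' : IsZero ((sect W).obj M) := by
    refine z0.of_iso (?_ ≪≫ asIso ((cmp (sect W) 0).app ((CochainComplex.singleFunctor _ 0).obj M)) ≪≫
      (RH (sect W) 0).mapIso (((SingleFunctors.evaluation _ _ 0).mapIso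
        (singleFunctorsPostcompQIso _)).symm.app M))
    exact ((HomologicalComplex.homologyFunctorSingleIso _ (ComplexShape.up ℤ) 0).app ((sect W).obj M)).symm ≪≫
      (HomologicalComplex.homologyFunctor _ _ 0).mapIso
        ((HomologicalComplex.singleMapHomologicalComplex (sect W) (ComplexShape.up ℤ) 0).app M).symm
  exact z0'.of_iso ((sect W).mapIso eM)

/-- If `H^k Rf_*Z = 0` for affine `f`, then `H^k Z = 0`. -/
theorem isZero_homology_of_Rpush (f : X ⟶ S) [IsAffineHom f] [DCoh.HasRpush f] (Z : DCoh.D X)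
    (hZ : DCoh.IsQCohD Z) (k : ℤ)
    (h : IsZero ((homologyFunctor _ k).obj ((DCoh.Rpush f).obj Z))) :
    IsZero ((homologyFunctor _ k).obj Z) := by
  obtain ⟨I, hI, ⟨e⟩⟩ := RightDerived.exists_resFunctor_obj_iso Z
  have := hI
  have := DerCat.HProd.isIso_counit Z
  let eI : DerivedCategory.Qh.obj ((HomotopyCategory.quotient X.Modules (ComplexShape.up ℤ)).obj I) ≅ Z :=
    Qh.mapIso e ≪≫ asIso ((RightDerived.resAdj _).counit.app Z)
  let eQ : DerivedCategory.Q.obj I ≅ Z := (quotientCompQhIso _).symm.app I ≪≫ eI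
  have := RightDerived.isIso_totalRightDerivedUnit_app_of_isKInjective (DCoh.pushKh f) I
  let C := ((Scheme.Modules.pushforward f).mapHomologicalComplex (ComplexShape.up ℤ)).obj I
  let eC : DerivedCategory.Q.obj C ≅ (DCoh.Rpush f).obj Z :=
    (quotientCompQhIso S.Modules).symm.app C ≪≫
      DerivedCategory.Qh.mapIso (((Scheme.Modules.pushforward f).mapHomotopyCategoryFactors
        (ComplexShape.up ℤ)).symm.app I) ≪≫
      asIso (((DCoh.pushKh f).totalRightDerivedUnit DerivedCategory.Qh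
        (HomotopyCategory.quasiIso X.Modules (ComplexShape.up ℤ))).app
          ((HomotopyCategory.quotient X.Modules (ComplexShape.up ℤ)).obj I)) ≪≫
      (DCoh.Rpush f).mapIso eI
  have hq := RpushQCoh.isQCohD_Rpush f Z hZ
  have : ((homologyFunctor X.Modules k).obj Z).IsQuasicoherent := hZ k
  refine AffinePush.isZero_of_sect fun x => ?_
  obtain ⟨V, hV, hxV, -⟩ := exists_isAffineOpen_mem_and_subset (X := S) (x := f x) (U := ⊤) trivial
  refine ⟨f ⁻¹ᵁ V, hV.preimage f, hxV, ?_⟩
  obtain ⟨θ⟩ := RpushAcyclic.nonempty_RH_sect_iso f I V k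
  have hR : IsZero ((RH (sect (f ⁻¹ᵁ V)) k).obj Z) :=
    (isZero_RH_sect_of_isZero V hV _ hq k h).of_iso
      ((RH (sect (f ⁻¹ᵁ V)) k).mapIso eQ.symm ≪≫ θ ≪≫ (RH (sect V) k).mapIso eC)
  exact isZero_sect_of_RH (f ⁻¹ᵁ V) (hV.preimage f) Z hZ k hR

end Groth.Agent.H83.BdPts
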