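import Groth.Agent.Lib.Exchange.Main
import Groth.Agent.Lib.DR.TorAmp
import Mathlib.RingTheory.Filtration

/-! # Exactness is detected by tensoring with deep quotients -/

universe u

open CategoryTheory CategoryTheory.Limits MonoidalCategory
open scoped TensorProduct

attribute [local instance] HasDerivedCategory.standard

namespace Groth.Agent.H83.BdPts

open Groth.Agent.Lib Groth.Agent.Lib.DR.PseudoCoherent Groth.Agent.Lib.DR.Basic

variable {A : Type u} [CommRing A]

/-- A cycle which is a boundary after tensoring with a cyclic module is a boundary modulo its annihilator. -/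
theorem mem_range_add {N : ModuleCat.{u} A} (n₀ : N) (hspan : ∀ m : N, ∃ a : A, a • n₀ = m)
    {M M' : Type u} [AddCommGroup M] [Module A M] [AddCommGroup M'] [Module A M'] (d : M →ₗ[A] M') (v : M')
    (h : v ⊗ₜ[A] n₀ ∈ LinearMap.range (d.rTensor N)) (J : Ideal A) (hJ : ∀ a : A, a • n₀ = 0 → a ∈ J) :
    v ∈ LinearMap.range d ⊔ J • (⊤ : Submodule A M') := by
  obtain ⟨ξ, hξ⟩ := h
  obtain ⟨w, hw⟩ : ∃ w : M, ξ = w ⊗ₜ[A] n₀ := by
    clear hξ
    induction ξ using TensorProduct.induction_on with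
    | zero => exact ⟨0, by simp⟩
    | tmul w m => obtain ⟨a, rfl⟩ := hspan m; exact ⟨a • w, by rw [TensorProduct.smul_tmul]⟩
    | add x y hx hy =>
      obtain ⟨a, rfl⟩ := hx
      obtain ⟨b, rfl⟩ := hy
      exact ⟨a + b, (TensorProduct.add_tmul _ _ _).symm⟩
  subst hw
  rw [LinearMap.rTensor_tmul] at hξ
  let π : A →ₗ[A] N := LinearMap.toSpanSingleton A N n₀
  have hπ : Function.Surjective π := hspan
  have hex : Function.Exact (LinearMap.ker π).subtype π := LinearMap.exact_subtype_ker_map π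
  have h0 : π.lTensor M' ((v - d w) ⊗ₜ[A] (1 : A)) = 0 := by
    simp only [LinearMap.lTensor_tmul, π, LinearMap.toSpanSingleton_apply, one_smul]
    rw [TensorProduct.sub_tmul, hξ, sub_self]
  obtain ⟨z, hz⟩ := (lTensor_exact M' hex hπ _).1 h0
  have hmem : ∀ z : M' ⊗[A] (LinearMap.ker π),
      TensorProduct.rid A M' ((LinearMap.ker π).subtype.lTensor M' z) ∈ J • (⊤ : Submodule A M') := by
    intro z
    induction z using TensorProduct.induction_on with
    | zero => simp
    | tmul m a =>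
      rw [LinearMap.lTensor_tmul, TensorProduct.rid_tmul]
      exact Submodule.smul_mem_smul (hJ _ a.2) trivial
    | add x y hx hy => rw [map_add, map_add]; exact Submodule.add_mem _ hx hy
  have := hmem z
  rw [hz, TensorProduct.rid_tmul, one_smul] at this
  exact Submodule.mem_sup.2 ⟨d w, ⟨w, rfl⟩, v - d w, this, by abel⟩

variable [IsLocalRing A] [IsNoetherianRing A]

/-- A bounded above flat complex with finite cohomology is exact where its deep cyclic reductions are. -/
theorem exactAt_of_tens (C : DRing.Cx A) (b : ℤ) (hb : ∀ i, b < i → IsZero (C.X i))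
    (hf : ∀ i, Module.Flat A (C.X i)) (hfin : ∀ i, Module.Finite A (C.homology i)) (i : ℤ)
    (h : ∀ j : ℕ, ∃ (N : ModuleCat.{u} A) (n₀ : N), (∀ m : N, ∃ a : A, a • n₀ = m) ∧
      (∀ a : A, a • n₀ = 0 → a ∈ IsLocalRing.maximalIdeal A ^ j) ∧ ((DR.TorAmp.tens N).obj C).ExactAt i) :
    C.ExactAt i := by
  obtain ⟨L, s, hL, hLff, hs⟩ := ZarCoh.Exchange.Main.exists_resolution_ff A C b
    (fun i hi => HomologicalComplex.ExactAt.of_isZero (hb i hi)) hfin
  haveI := hs
  suffices hLi : L.ExactAt i by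
    rw [HomologicalComplex.exactAt_iff_isZero_homology] at hLi ⊢
    exact hLi.of_iso (asIso (HomologicalComplex.homologyMap s i)).symm
  have hLt : ∀ j : ℕ, ∃ (N : ModuleCat.{u} A) (n₀ : N), (∀ m : N, ∃ a : A, a • n₀ = m) ∧
      (∀ a : A, a • n₀ = 0 → a ∈ IsLocalRing.maximalIdeal A ^ j) ∧ ((DR.TorAmp.tens N).obj L).ExactAt i := by
    intro j
    obtain ⟨N, n₀, h1, h2, h3⟩ := h j
    refine ⟨N, n₀, h1, h2, ?_⟩
    haveI := DR.TorAmp.isIso_tens_map N s b hL hb
      (fun i => haveI := (hLff i).2; (inferInstance : Module.Flat A (L.X i))) hf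
    rw [HomologicalComplex.exactAt_iff_isZero_homology] at h3 ⊢
    exact h3.of_iso ((homologyQIso _ i).symm ≪≫ (DerivedCategory.homologyFunctor _ i).mapIso
      (asIso (DerivedCategory.Q.map ((DR.TorAmp.tens N).map s))) ≪≫ homologyQIso _ i)
  rw [HomologicalComplex.exactAt_iff' L (i - 1) i (i + 1) (by simp) (by simp),
    ShortComplex.moduleCat_exact_iff]
  intro v hv
  change ↥(L.X i) at v
  haveI := (hLff i).1
  let R := LinearMap.range (L.d (i - 1) i).hom
  have hv' : ∀ j : ℕ, v ∈ R ⊔ IsLocalRing.maximalIdeal A ^ j • (⊤ : Submodule A (L.X i)) := by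
    intro j
    obtain ⟨N, n₀, h1, h2, h3⟩ := hLt j
    rw [HomologicalComplex.exactAt_iff' _ (i - 1) i (i + 1) (by simp) (by simp),
      ShortComplex.moduleCat_exact_iff] at h3
    obtain ⟨ξ, hξ⟩ := h3 (v ⊗ₜ[A] n₀) (by
      change (L.d i (i + 1)).hom v ⊗ₜ[A] n₀ = 0
      rw [show (L.d i (i + 1)).hom v = 0 from hv, TensorProduct.zero_tmul])
    exact mem_range_add n₀ h1 (L.d (i - 1) i).hom v ⟨ξ, hξ⟩ _ h2
  have hq : Submodule.Quotient.mk (p := R) v = 0 := by
    rw [← Submodule.mem_bot A, ← Ideal.iInf_pow_smul_eq_bot_of_isLocalRing (R := A)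
      (M := L.X i ⧸ R) (IsLocalRing.maximalIdeal A) (IsLocalRing.maximalIdeal.isMaximal A).ne_top,
      Submodule.mem_iInf]
    intro j
    obtain ⟨r, hr, m, hm, rfl⟩ := Submodule.mem_sup.1 (hv' j)
    rw [Submodule.Quotient.mk_add, (Submodule.Quotient.mk_eq_zero R).2 hr, zero_add]
    have := Submodule.mem_map_of_mem (f := R.mkQ) hm
    rw [Submodule.map_smul''] at this
    exact Submodule.smul_mono le_rfl le_top this
  obtain ⟨w, hw⟩ := (Submodule.Quotient.mk_eq_zero R).1 hq
  exact ⟨w, hw⟩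

end Groth.Agent.H83.BdPts
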