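import Mathlib.Algebra.Homology.DerivedCategory.Fractions
import Groth.Agent.Lib.DerivedOX.AmplitudeStalk
import Groth.Agent.Lib.DerivedOX.FlatResolve
import Groth.Agent.Lib.DerivedOX.RpushTriangulated
import Groth.Agent.Lib.Perfect.Coherent
import Groth.Agent.Lib.Perfect.Triangle

/-! # Cohomology of `Rp_*(- ⊗^L M)` on the cone of a map of perfect objects -/

universe u

open CategoryTheory CategoryTheory.Limits AlgebraicGeometry Pretriangulated

attribute [local instance] HasDerivedCategory.standard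

namespace Groth.Agent.H83.BdPts

open Groth.Agent.Lib Groth.Agent.Lib.DerivedOX Amplitude

variable {X Y : Scheme.{u}}

/-- The termwise computation of `- ⊗^L M` is natural. -/
theorem exists_ltensor_arrow (M : X.Modules) [DCoh.HasLTensorMod M] {P E : CochainComplex X.Modules ℤ}
    (hP : DCoh.IsKFlat P) (hE : DCoh.IsKFlat E) (g : P ⟶ E) :
    ∃ (e₁ : (DCoh.LTensorMod M).obj (DCoh.toD X P) ≅ DCoh.toD X ((tens M).obj P))
      (e₂ : (DCoh.LTensorMod M).obj (DCoh.toD X E) ≅ DCoh.toD X ((tens M).obj E)),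
      (DCoh.LTensorMod M).map (DerivedCategory.Q.map g) ≫ e₂.hom =
        e₁.hom ≫ DerivedCategory.Q.map ((tens M).map g) := by
  let η := (DCoh.tensorModKh M).totalLeftDerivedCounit DerivedCategory.Qh
    (HomotopyCategory.quasiIso X.Modules (.up ℤ))
  have hi : ∀ {A : CochainComplex X.Modules ℤ}, DCoh.IsKFlat A →
      IsIso (η.app ((HomotopyCategory.quotient X.Modules (.up ℤ)).obj A)) := fun {A} hA => by
    haveI : QuasiIso ((KFlat.aug X).app A) := KFlat.quasiIso_aug A
    haveI := quasiIso_tens M ((KFlat.aug X).app A) (KFlat.isKFlat_res A) hA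
    exact LeftDerived.isIso_khCounit_app (isAdapted_tensorModKh M) (DCoh.LTensorMod M) η A
      (LeftExists.isIso_onCx_map (DCoh.tensorRightMod M) ((KFlat.aug X).app A))
  haveI := hi hP
  haveI := hi hE
  refine ⟨(DCoh.LTensorMod M).mapIso ((DerivedCategory.quotientCompQhIso X.Modules).app P).symm ≪≫
      asIso (η.app ((HomotopyCategory.quotient X.Modules (.up ℤ)).obj P)) ≪≫
      (LeftExists.onCxIso (DCoh.tensorRightMod M)).app P,
    (DCoh.LTensorMod M).mapIso ((DerivedCategory.quotientCompQhIso X.Modules).app E).symm ≪≫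
      asIso (η.app ((HomotopyCategory.quotient X.Modules (.up ℤ)).obj E)) ≪≫
      (LeftExists.onCxIso (DCoh.tensorRightMod M)).app E, ?_⟩
  simp only [Iso.trans_hom, Functor.mapIso_hom, Iso.symm_hom, Iso.app_inv, Iso.app_hom, asIso_hom, Category.assoc]
  have h1 := (DerivedCategory.quotientCompQhIso X.Modules).inv.naturality g
  have h2 := η.naturality ((HomotopyCategory.quotient X.Modules (.up ℤ)).map g)
  have h3 := (LeftExists.onCxIso (DCoh.tensorRightMod M)).hom.naturality g
  dsimp at h1 h2 h3 ⊢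
  rw [← Functor.map_comp_assoc, h1, Functor.map_comp_assoc]
  congr 1
  rw [← Category.assoc, h2, Category.assoc]
  congr 1

/-- Perfect objects have bounded above flat representatives. -/
theorem exists_rep [CompactSpace X] {P : DCoh.D X} (hP : DCoh.IsPerfect P) :
    ∃ (G : CochainComplex X.Modules ℤ) (b : ℤ), (∀ i, b < i → IsZero (G.X i)) ∧
      (∀ i, FlatMod.IsFlat (G.X i)) ∧ Nonempty (DCoh.toD X G ≅ P) := by
  obtain ⟨lo, bd, -, hbd⟩ := Perfect.Coherent.bounded_of_isPerfect hP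
  let K := DerivedCategory.Q.objPreimage P
  have hK : ∀ n, bd < n → K.ExactAt n := fun n hn => by
    rw [HomologicalComplex.exactAt_iff_isZero_homology]
    exact (DerivedCategory.isZero_of_isLE P bd n hn).of_iso
      (((DerivedCategory.homologyFunctorFactors _ n).app K).symm ≪≫
        (DerivedCategory.homologyFunctor _ n).mapIso (DerivedCategory.Q.objObjPreimageIso P))
  obtain ⟨G, s, hG0, hGf, hs⟩ := FlatResolve.exists_flat_resolution K bd hK
  haveI := hs
  exact ⟨G, bd, hG0, hGf, ⟨asIso (DerivedCategory.Q.map s) ≪≫ DerivedCategory.Q.objObjPreimageIso P⟩⟩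

/-- Vanishing on the third vertex. -/
theorem isZero_HD_cone [CompactSpace X] (p : X ⟶ Y) [DCoh.HasRpush p] (M : X.Modules)
    [DCoh.HasLTensorMod M] (T : Triangle (DCoh.D X)) (hT : T ∈ distinguishedTriangles)
    (h₁ : DCoh.IsPerfect T.obj₁) (h₂ : DCoh.IsPerfect T.obj₂) (j : ℤ)
    (he : Epi ((DerivedCategory.homologyFunctor _ j).map
      ((DCoh.Rpush p).map ((DCoh.LTensorMod M).map T.mor₁))))
    (hm : Mono ((DerivedCategory.homologyFunctor _ (j + 1)).map
      ((DCoh.Rpush p).map ((DCoh.LTensorMod M).map T.mor₁)))) :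
    IsZero (DCoh.HD ((DCoh.Rpush p).obj ((DCoh.LTensorMod M).obj T.obj₃)) j) := by
  obtain ⟨E₁, b₁, hz₁, hf₁, ⟨e₁⟩⟩ := exists_rep h₁
  obtain ⟨E₂, b₂, hz₂, hf₂, ⟨e₂⟩⟩ := exists_rep h₂
  obtain ⟨Z, s, hs, g₀, hg₀⟩ := DerivedCategory.right_fac (e₁.hom ≫ T.mor₁ ≫ e₂.inv)
  haveI : QuasiIso s := (DerivedCategory.isIso_Q_map_iff_quasiIso _ s).1 hs
  obtain ⟨P, r, hP, hPf, hr⟩ := FlatResolve.exists_flat_resolution Z b₁ fun i hi =>
    (exactAt_iff_of_quasiIsoAt s i).2 (HomologicalComplex.ExactAt.of_isZero (hz₁ i hi))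
  haveI := hr
  let g : P ⟶ E₂ := r ≫ g₀
  let eP : DerivedCategory.Q.obj P ≅ T.obj₁ := asIso (DerivedCategory.Q.map (r ≫ s)) ≪≫ e₁
  have w : eP.hom ≫ T.mor₁ = DerivedCategory.Q.map g ≫ e₂.hom := by
    rw [← cancel_mono e₂.inv]
    simp only [eP, g, Iso.trans_hom, asIso_hom, Functor.map_comp, Category.assoc, Iso.hom_inv_id,
      Category.comp_id]
    rw [hg₀, IsIso.hom_inv_id_assoc]
  obtain ⟨iso, -⟩ := exists_iso_of_arrow_iso _ _
    (DerivedCategory.mappingCone_triangle_distinguished g) hT (Arrow.isoMk eP e₂ w)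
  let C := CochainComplex.mappingCone g
  let b := max b₁ b₂
  have hCf : ∀ i, FlatMod.IsFlat (C.X i) := fun i =>
    FlatResolve.good_isFlat.iso (HomologicalComplex.homotopyCofiber.XIsoBiprod g i (i + 1) rfl).symm
      (FlatResolve.good_isFlat.biprod (hPf (i + 1)) (hf₂ i))
  have hC : ∀ i, b < i → IsZero (C.X i) := fun i hi => by
    refine IsZero.of_iso ?_ (HomologicalComplex.homotopyCofiber.XIsoBiprod g i (i + 1) rfl)
    rw [biprod_isZero_iff]
    exact ⟨hP _ (by omega), hz₂ i (by omega)⟩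
  obtain ⟨eC⟩ := nonempty_ltensor_iso M (isKFlat_of_bounded C b hC hCf)
  obtain ⟨a₁, a₂, ha⟩ := exists_ltensor_arrow M (isKFlat_of_bounded P b₁ hP hPf)
    (isKFlat_of_bounded E₂ b₂ hz₂ hf₂) g
  let R := DCoh.Rpush p
  let L := DCoh.LTensorMod M
  have hD := R.map_distinguished _ (DerivedCategory.mappingCone_triangle_distinguished ((tens M).map g))
  let H := fun n => DerivedCategory.homologyFunctor Y.Modules n
  let c₁ : R.obj (DCoh.toD X ((tens M).obj P)) ≅ R.obj (L.obj T.obj₁) :=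
    R.mapIso (a₁.symm ≪≫ L.mapIso eP)
  let c₂ : R.obj (DCoh.toD X ((tens M).obj E₂)) ≅ R.obj (L.obj T.obj₂) :=
    R.mapIso (a₂.symm ≪≫ L.mapIso e₂)
  have hc : R.map (DerivedCategory.Q.map ((tens M).map g)) =
      c₁.hom ≫ R.map (L.map T.mor₁) ≫ c₂.inv := by
    simp only [c₁, c₂, Functor.mapIso_hom, Functor.mapIso_inv, ← R.map_comp]
    congr 1
    simp only [Iso.trans_hom, Iso.trans_inv, Iso.symm_hom, Iso.symm_inv, Functor.mapIso_hom,
      Functor.mapIso_inv, Category.assoc]
    rw [← L.map_comp_assoc eP.hom, w, L.map_comp, Category.assoc, ← L.map_comp_assoc e₂.hom,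
      Iso.hom_inv_id, L.map_id, Category.id_comp, ha, Iso.inv_hom_id_assoc]
  have he' : Epi ((H j).map (R.map (DerivedCategory.Q.map ((tens M).map g)))) := by
    haveI := he
    rw [hc, Functor.map_comp, Functor.map_comp]
    infer_instance
  have hm' : Mono ((H (j + 1)).map (R.map (DerivedCategory.Q.map ((tens M).map g)))) := by
    haveI := hm
    rw [hc, Functor.map_comp, Functor.map_comp]
    infer_instance
  have hz := (DerivedCategory.HomologySequence.exact₃ _ hD j (j + 1) rfl).isZero_X₂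
    ((DerivedCategory.HomologySequence.epi_homologyMap_mor₁_iff _ hD j).1 he')
    ((DerivedCategory.HomologySequence.mono_homologyMap_mor₁_iff _ hD j (j + 1) rfl).1 hm')
  exact hz.of_iso ((H j).mapIso (R.mapIso (L.mapIso (Triangle.π₃.mapIso iso).symm ≪≫ eC ≪≫
    DerivedCategory.Q.mapIso (CochainComplex.mappingCone.mapHomologicalComplexIso g (DCoh.tensorRightMod M)))))

end Groth.Agent.H83.BdPts
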