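import Groth.Agent.H83.BdPts.Alg
import Groth.Agent.H83.BdPts.Aff
import Groth.Agent.Lib.DerivedOX.AmplitudeStalk
import Groth.Agent.Lib.DerivedOX.FlatResolve
import Groth.Agent.Lib.DerivedOX.OpenSupport
import Groth.Agent.Lib.DerivedOX.PullComp
import Groth.Agent.Lib.DerivedOX.PullbackStalk
import Groth.Agent.Lib.DerivedOX.QCohLocal
import Groth.Agent.Lib.DerivedOX.TensorSymm
import Groth.Agent.Lib.DerivedOX.SingleTensor
import Groth.Agent.Lib.Perfect.Coherent
import Groth.Agent.Lib.Perfect.QCohD
import Groth.Agent.Lib.Devissage.Sky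
import Groth.Agent.Lib.RefHull.LocFree
import Groth.Agent.Lib.RefHull.Reflexive
import Groth.Agent.Lib.Snapper.Twist
import Groth.Agent.Lib.QCoh.Pullback
import Groth.Agent.Lib.Modules.Support

/-! # Detecting cohomology of perfect objects on a product at closed points -/

universe u

open CategoryTheory CategoryTheory.Limits AlgebraicGeometry IsLocalRing
open scoped TensorProduct

attribute [local instance] HasDerivedCategory.standard

namespace Groth.Agent.H83.BdPts

open Groth.Agent.Lib Groth.Agent.Lib.DerivedOX Modules.StalkModule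

/-- The deep point quotient of the structure sheaf. -/
theorem exists_test {X : Scheme.{u}} [IsLocallyNoetherian X] {x : X} (hx : IsClosed ({x} : Set X)) (j : ℕ) :
    ∃ F : X.Modules, Coh.IsCoh F ∧ CohB1.support F ⊆ {x} ∧
      Nonempty ((F.presheaf.stalk x) ≃ₗ[X.presheaf.stalk x]
        (X.presheaf.stalk x ⧸ maximalIdeal (X.presheaf.stalk x) ^ j)) := by
  let R := X.presheaf.stalk x
  let S := maximalIdeal (X.presheaf.stalk x) ^ j
  let E := Coh.structureModule X
  let φ : E.presheaf.stalk x →ₗ[X.presheaf.stalk x] (X.presheaf.stalk x ⧸ S) :=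
    (Submodule.mkQ S).comp (RefHull.Reflexive.oEquiv x).toLinearMap
  have hφ : Function.Surjective φ := (Submodule.mkQ_surjective S).comp (RefHull.Reflexive.oEquiv x).surjective
  let L := Devissage.Sky.sky x (X.presheaf.stalk x ⧸ S)
  let q : E ⟶ L := Devissage.Sky.toSky φ
  have hqc : L.IsQuasicoherent := Devissage.Sky.isQCoh_sky x _ fun a ha l => by
    obtain ⟨v, rfl⟩ := Ideal.Quotient.mk_surjective l
    refine ⟨j, ?_⟩
    rw [Algebra.smul_def, Ideal.Quotient.algebraMap_eq, ← map_mul, Ideal.Quotient.eq_zero_iff_mem]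
    exact Ideal.mul_mem_right _ _ (Ideal.pow_mem_pow ((mem_maximalIdeal a).2 ha) _)
  have hoff : ∀ y : X, y ≠ x → Subsingleton (L.presheaf.stalk y) := fun y hy => by
    refine subsingleton_of_forall_eq 0 fun v => ?_
    obtain ⟨U, hU, s, rfl⟩ := TopCat.Presheaf.exists_germ_eq L.presheaf v
    let W : X.Opens := U ⊓ ⟨{x}ᶜ, hx.isOpen_compl⟩
    have hW : y ∈ W := ⟨hU, hy⟩
    rw [← TopCat.Presheaf.germ_res_apply L.presheaf (homOfLE (inf_le_left : W ≤ U)) y hW s]
    refine (congrArg (L.presheaf.germ W y hW) ?_).trans (map_zero _)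
    exact funext fun h => absurd rfl (show ¬ x = x from h.down.2)
  have hq : Epi q := (epi_iff_stalkMapₗ_surjective q).2 fun y => by
    by_cases hy : y = x
    · subst hy
      intro w
      obtain ⟨l, rfl⟩ := (Devissage.Sky.stalkEquiv y _).surjective w
      obtain ⟨v, rfl⟩ := hφ l
      exact ⟨v, Devissage.Sky.stalkMapₗ_toSky φ v⟩
    · haveI := hoff y hy
      exact fun w => ⟨0, Subsingleton.elim _ _⟩
  exact ⟨L, CohBasics.Closure.isCoh_of_epi q (Snapper.Twist.isCoh_structureModule X),
    fun y hy => by by_contra hne; exact hy (hoff y hne), ⟨(Devissage.Sky.stalkEquiv x _).symm⟩⟩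

/-- Base change of a deep point quotient along a local map is cyclic with deep annihilator. -/
theorem exists_gen {A B : Type u} [CommRing A] [CommRing B] [IsLocalRing A] [IsLocalRing B]
    (φ : A →+* B) [IsLocalHom φ] (j : ℕ) :
    ∃ n₀ : (ModuleCat.extendScalars.{u, u, u} φ).obj (ModuleCat.of A (A ⧸ maximalIdeal A ^ j)),
      (∀ m, ∃ b : B, b • n₀ = m) ∧ (∀ b : B, b • n₀ = 0 → b ∈ maximalIdeal B ^ j) := by
  letI := φ.toAlgebra
  let I := maximalIdeal A ^ j
  let e := Algebra.TensorProduct.quotIdealMapEquivTensorQuot B I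
  let n₀ : B ⊗[A] (A ⧸ I) := 1
  have hsmul : ∀ b : B, b • n₀ = e (Ideal.Quotient.mk _ b) := fun b => by
    have h : Ideal.Quotient.mk (I.map (algebraMap A B)) b = b • 1 := by
      rw [Algebra.smul_def, mul_one]; rfl
    rw [h, map_smul, map_one]
  refine ⟨n₀, fun m => ?_, fun b hb => ?_⟩
  · obtain ⟨q, hq⟩ := e.surjective (show B ⊗[A] (A ⧸ I) from m)
    obtain ⟨b, rfl⟩ := Ideal.Quotient.mk_surjective q
    exact ⟨b, (hsmul b).trans hq⟩
  · have h0 : e (Ideal.Quotient.mk _ b) = 0 := (hsmul b).symm.trans hb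
    rw [map_eq_zero_iff _ e.injective, Ideal.Quotient.eq_zero_iff_mem, Ideal.map_pow] at h0
    refine Ideal.pow_right_mono ?_ j h0
    exact (((IsLocalRing.local_hom_TFAE φ).out 0 2).1 ‹IsLocalHom φ›)

section
variable {k : Type u} [Field k] {X Y : Scheme.{u}} (a : X ⟶ Spec (.of k)) (b : Y ⟶ Spec (.of k))
  [LocallyOfFiniteType a] [CompactSpace X] [LocallyOfFiniteType b] [CompactSpace Y]

/-- `- ⊗^L M` of a perfect object has quasi-coherent cohomology. -/
theorem isQCohD_ltensor {Z : Scheme.{u}} (M : Z.Modules) (hM : M.IsQuasicoherent) [DCoh.HasLTensorMod M]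
    {P : DCoh.D Z} (hP : DCoh.IsQCohD P) {G : CochainComplex Z.Modules ℤ} (hG : DCoh.IsKFlat G)
    (e : DCoh.toD Z G ≅ P) : DCoh.IsQCohD ((DCoh.LTensorMod M).obj P) := by
  let S : CochainComplex Z.Modules ℤ := (HomologicalComplex.single Z.Modules (ComplexShape.up ℤ) 0).obj M
  have := LeftExists.hasLTensorCx S
  have hS : DCoh.IsQCohD (DCoh.toD Z S) := fun i => by
    have hS' : Coh.IsQCoh (S.homology i) := by
      by_cases hi : i = 0
      · subst hi
        exact @CohBasics.Closure.isQCoh_of_iso _ _ _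
          ((HomologicalComplex.homologyFunctorSingleIso _ (ComplexShape.up ℤ) 0).app M).symm hM
      · haveI := hM
        haveI : Coh.IsQCoh (cokernel (𝟙 M)) := QCoh.Closure.isQCoh_cokernel (𝟙 M)
        exact CohBasics.Closure.isQCoh_of_iso ((isZero_cokernel_of_epi (𝟙 M)).iso
          (HomologicalComplex.exactAt_single_obj _ _ M i hi).isZero_homology)
    exact @CohBasics.Closure.isQCoh_of_iso _ _ _
      ((DerivedCategory.homologyFunctorFactors Z.Modules i).app S).symm hS'
  let ν : DCoh.tensorRightMod M ≅ (DCoh.tensorBi (X := Z)).obj M :=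
    NatIso.ofComponents (fun N => TensorMod.Basic.comm N M) (fun {N N'} g => by
      rw [PullTensor.tensorBi_obj_map]
      exact TensorMod.Basic.comm_natural g (𝟙 M))
  let eS : (Amplitude.tens M).obj G ≅ (DCoh.tensorCx.obj G).obj S :=
    (NatIso.mapHomologicalComplex ν (ComplexShape.up ℤ)).app G ≪≫
      (SingleTensor.singleZeroIso (DCoh.tensorBi (X := Z)) M).app G ≪≫
      (TensorSymm.commCx G S).symm
  obtain ⟨e₁⟩ := Amplitude.nonempty_ltensor_iso M hG
  obtain ⟨e₂⟩ := QCohLocal.nonempty_LTensorCx_iso S hG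
  intro i
  haveI : Coh.IsQCoh (DCoh.HD ((DCoh.LTensorCx S).obj P) i) := QCohLocal.isQCohD_LTensorCx S hS hP i
  exact CohBasics.Closure.isQCoh_of_iso ((DerivedCategory.homologyFunctor _ i).mapIso
    ((DCoh.LTensorCx S).mapIso e.symm ≪≫ e₂ ≪≫ DerivedCategory.Q.mapIso eS.symm ≪≫ e₁.symm ≪≫
      (DCoh.LTensorMod M).mapIso e))

variable [∀ F : X.Modules, DCoh.HasLTensorMod ((Scheme.Modules.pullback (pullback.fst a b)).obj F)]
  [DCoh.HasRpush (pullback.snd a b)]

/-- No cohomology of a perfect object in a degree invisible at all closed points of the first factor. -/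
theorem isZero_HD_of_points (P : DCoh.D (pullback a b)) (hP : DCoh.IsPerfect P) (i : ℤ)
    (h : ∀ F : X.Modules, Coh.IsCoh F → (CohB1.support F).Finite →
      (∀ x ∈ CohB1.support F, IsClosed ({x} : Set X)) →
      IsZero (DCoh.HD ((DCoh.Rpush (pullback.snd a b)).obj
        ((DCoh.LTensorMod ((Scheme.Modules.pullback (pullback.fst a b)).obj F)).obj P)) i)) :
    IsZero (DCoh.HD P i) := by
  let p1 := pullback.fst a b
  let p2 := pullback.snd a b
  have hXn : IsLocallyNoetherian X := LocallyOfFiniteType.isLocallyNoetherian a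
  have hZn : IsLocallyNoetherian (pullback a b) := LocallyOfFiniteType.isLocallyNoetherian p1
  have hXs : QuasiCompact a := HasAffineProperty.iff_of_isAffine.mpr ‹CompactSpace X›
  have hYs : QuasiCompact b := HasAffineProperty.iff_of_isAffine.mpr ‹CompactSpace Y›
  have hZc : CompactSpace (pullback a b : Scheme.{u}) := QuasiCompact.compactSpace_of_compactSpace p1
  have hJX : JacobsonSpace X := LocallyOfFiniteType.jacobsonSpace a
  have hJ : JacobsonSpace (pullback a b : Scheme.{u}) := LocallyOfFiniteType.jacobsonSpace p1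
  have hcoh := Perfect.Coherent.isCohD_of_isPerfect hP
  obtain ⟨lo, bd, -, hbd⟩ := Perfect.Coherent.bounded_of_isPerfect hP
  let K := DerivedCategory.Q.objPreimage P
  have hK : ∀ n, bd < n → K.ExactAt n := fun n hn => by
    rw [HomologicalComplex.exactAt_iff_isZero_homology]
    exact (DerivedCategory.isZero_of_isLE P bd n hn).of_iso
      (((DerivedCategory.homologyFunctorFactors _ n).app K).symm ≪≫
        (DerivedCategory.homologyFunctor _ n).mapIso (DerivedCategory.Q.objObjPreimageIso P))
  obtain ⟨G, s, hG0, hGf, hs⟩ := FlatResolve.exists_flat_resolution K bd hK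
  have hGk : DCoh.IsKFlat G := Amplitude.isKFlat_of_bounded G bd hG0 hGf
  let eG : DCoh.toD _ G ≅ P :=
    (haveI := hs; asIso (DerivedCategory.Q.map s)) ≪≫ DerivedCategory.Q.objObjPreimageIso P
  let eh : ∀ n, G.homology n ≅ DCoh.HD P n := fun n =>
    ((DerivedCategory.homologyFunctorFactors _ n).app G).symm ≪≫ (DerivedCategory.homologyFunctor _ n).mapIso eG
  rw [← Modules.Support.support_eq_empty_iff]
  by_contra hne
  have := (hcoh i).2
  obtain ⟨z, hz, hzc⟩ := nonempty_inter_closedPoints (Set.nonempty_iff_ne_empty.2 hne)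
    (Modules.Support.isClosed_support (DCoh.HD P i)).isLocallyClosed
  apply hz
  let x := p1 z
  have hx : IsClosed ({x} : Set X) := p1.closePoints_subset_preimage_closedPoints hzc
  obtain ⟨U, hU, hxU, -⟩ := exists_isAffineOpen_mem_and_subset (X := X) (x := x) (U := ⊤) trivial
  let C := ((stalkModFunctor (pullback a b) z).mapHomologicalComplex (ComplexShape.up ℤ)).obj G
  suffices hC : C.ExactAt i by
    exact (ModuleCat.subsingleton_of_isZero ((hC.isZero_homology).of_iso
      ((stalkModFunctor (pullback a b) z).mapIso (eh i).symm ≪≫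
        ((G.sc i).mapHomologyIso (stalkModFunctor (pullback a b) z)).symm)))
  refine exactAt_of_tens C bd (fun n hn => (stalkModFunctor _ z).map_isZero (hG0 n hn)) (fun n => hGf n z)
    (fun n => by
      haveI : Module.Finite ((pullback a b).presheaf.stalk z)
          ((stalkModFunctor (pullback a b) z).obj (DCoh.HD P n)) := RefHull.LocFree.finite_stalk (hcoh n) z
      exact Module.Finite.equiv (((G.sc n).mapHomologyIso (stalkModFunctor (pullback a b) z)) ≪≫
        (stalkModFunctor (pullback a b) z).mapIso (eh n)).toLinearEquiv.symm) i fun j => ?_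
  obtain ⟨F, hF, hFs, ⟨eF⟩⟩ := exists_test hx j
  let M := (Scheme.Modules.pullback p1).obj F
  obtain ⟨n₀, hspan, hann⟩ := exists_gen (p1.stalkMap z).hom j
  refine ⟨_, n₀, hspan, hann, ?_⟩
  let eN : ModuleCat.of ((pullback a b).presheaf.stalk z) (M.presheaf.stalk z) ≅
      (ModuleCat.extendScalars.{u, u, u} (p1.stalkMap z).hom).obj
        (ModuleCat.of (X.presheaf.stalk (p1 z)) (X.presheaf.stalk x ⧸ maximalIdeal (X.presheaf.stalk x) ^ j)) :=
    ((PullbackStalk.pullbackStalkIso p1 z).app F).symm ≪≫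
      (ModuleCat.extendScalars (p1.stalkMap z).hom).mapIso eF.toModuleIso
  let ψ : DCoh.tensorRightMod M ⋙ stalkModFunctor (pullback a b) z ≅
      stalkModFunctor (pullback a b) z ⋙ MonoidalCategory.tensorRight
        ((ModuleCat.extendScalars.{u, u, u} (p1.stalkMap z).hom).obj
          (ModuleCat.of (X.presheaf.stalk (p1 z)) (X.presheaf.stalk x ⧸ maximalIdeal (X.presheaf.stalk x) ^ j))) :=
    (TensorSheaf.tensorRightStalkIso z M :) ≪≫
      Functor.isoWhiskerLeft _ ((MonoidalCategory.curriedTensor _).flip.mapIso eN)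
  suffices hT : (((stalkModFunctor (pullback a b) z).mapHomologicalComplex (ComplexShape.up ℤ)).obj
      ((Amplitude.tens M).obj G)).ExactAt i from
    hT.of_iso ((NatIso.mapHomologicalComplex ψ (ComplexShape.up ℤ)).app G)
  let W := (DCoh.LTensorMod M).obj P
  obtain ⟨eW⟩ := Amplitude.nonempty_ltensor_iso M hGk
  let eWh : ∀ n, DCoh.HD W n ≅ ((Amplitude.tens M).obj G).homology n := fun n =>
    (DerivedCategory.homologyFunctor _ n).mapIso ((DCoh.LTensorMod M).mapIso eG.symm ≪≫ eW) ≪≫
      Amplitude.hdQ _ n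
  have hWq : DCoh.IsQCohD W := isQCohD_ltensor M
    (have := hF.1; QCoh.Pullback.isQCoh_pullback p1 F) (fun n => (hcoh n).1) hGk eG
  have hWs : ∀ n, CohB1.support (DCoh.HD W n) ⊆ p1 ⁻¹' {x} := fun n w hw => by
    by_contra hwx
    refine hw ?_
    have hF0 : Subsingleton (F.presheaf.stalk (p1 w)) := not_not.1 fun hh => hwx (hFs hh)
    have hM0 : IsZero ((stalkModFunctor (pullback a b) w).obj M) :=
      (Functor.map_isZero (ModuleCat.extendScalars.{u, u, u} (p1.stalkMap w).hom)
        (haveI : Subsingleton ((stalkModFunctor X (p1 w)).obj F) := hF0; ModuleCat.isZero_of_subsingleton ((stalkModFunctor X (p1 w)).obj F))).of_iso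
        ((PullbackStalk.pullbackStalkIso p1 w).app F).symm
    have hterm : IsZero ((stalkModFunctor (pullback a b) w).obj (((Amplitude.tens M).obj G).X n)) :=
      (Functor.map_isZero (MonoidalCategory.tensorLeft
        ((stalkModFunctor (pullback a b) w).obj (G.X n))) hM0).of_iso
        ((TensorSheaf.tensorRightStalkIso w M).app (G.X n))
    exact ModuleCat.subsingleton_of_isZero
      ((((HomologicalComplex.ExactAt.of_isZero (K := ((stalkModFunctor (pullback a b) w).mapHomologicalComplex _).obj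
          ((Amplitude.tens M).obj G)) hterm).isZero_homology).of_iso
        ((((Amplitude.tens M).obj G).sc n).mapHomologyIso (stalkModFunctor (pullback a b) w)).symm).of_iso
        ((stalkModFunctor (pullback a b) w).mapIso (eWh n)))
  have hi := h F hF (Set.Finite.subset (Set.finite_singleton x) hFs)
    (fun y hy => by obtain rfl : y = x := hFs hy; exact hx)
  let V : (pullback a b : Scheme.{u}).Opens := p1 ⁻¹ᵁ U
  have := Exists.hasRpush V.ι
  have := Exists.hasRpush (V.ι ≫ p2)
  have hg : IsAffineHom (V.ι ≫ p2) := by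
    have : IsAffine (U : Scheme.{u}) := hU
    have : IsAffineHom (U.ι ≫ a) := isAffineHom_of_isAffine _
    have : IsAffineHom (pullback.snd (U.ι ≫ a) b) := MorphismProperty.pullback_snd _ _ inferInstance
    have e : V.ι ≫ p2 = (pullbackRestrictIsoRestrict p1 U).inv ≫
        (pullbackSymmetry _ _ ≪≫ pullbackRightPullbackFstIso a b U.ι).hom ≫ pullback.snd (U.ι ≫ a) b := by
      rw [Iso.trans_hom, Category.assoc, pullbackRightPullbackFstIso_hom_snd, ← Category.assoc (pullbackSymmetry _ _).hom,
        pullbackSymmetry_hom_comp_snd, ← Category.assoc, pullbackRestrictIsoRestrict_inv_fst]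
    rw [e]
    infer_instance
  obtain ⟨eo⟩ := OpenSupport.nonempty_iso_Rpush V (p1 ⁻¹' {x}) (hx.preimage p1.continuous)
    (fun w hw => by show p1 w ∈ U; rw [show p1 w = x from hw]; exact hxU) W hWs
  have hz' : IsZero (DCoh.HD ((DCoh.restrictD V.ι).obj W) i) :=
    isZero_homology_of_Rpush (V.ι ≫ p2) _ (QCohLocal.isQCohD_restrictD V.ι hWq) i
      (hi.of_iso ((DerivedCategory.homologyFunctor _ i).mapIso
        (((PullComp.rpushCompIso V.ι p2).app _).symm ≪≫ (DCoh.Rpush p2).mapIso eo.symm)))
  have hzs : z ∉ CohB1.support (DCoh.HD W i) := fun hzw => by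
    have := Modules.Support.support_eq_empty_iff.2 (hz'.of_iso (Perfect.Coherent.homologyIso V.ι W i).symm)
    rw [Modules.Support.support_restrict] at this
    exact this.le (show (⟨z, hxU⟩ : (V : Scheme.{u})) ∈ V.ι ⁻¹' _ from hzw)
  rw [HomologicalComplex.exactAt_iff_isZero_homology]
  have h0 : IsZero ((stalkModFunctor (pullback a b) z).obj (DCoh.HD W i)) :=
    @ModuleCat.isZero_of_subsingleton _ _ _ (Modules.Support.not_mem_support_iff.1 hzs)
  exact h0.of_iso ((((Amplitude.tens M).obj G).sc i).mapHomologyIso (stalkModFunctor (pullback a b) z) ≪≫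
    (stalkModFunctor (pullback a b) z).mapIso (eWh i).symm)

end

end Groth.Agent.H83.BdPts
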