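import Groth.Agent.H83.BdPts.Geo
import Groth.Agent.H83.BdPts.Cone

/-! # Systems of perfect kernels bounded on points -/

universe u

open CategoryTheory CategoryTheory.Limits AlgebraicGeometry Pretriangulated

attribute [local instance] HasDerivedCategory.standard

namespace Groth.Agent.H83.BdPts

open Groth.Agent.Lib

variable {k : Type u} [Field k] {X Y : Scheme.{u}} (a : X ⟶ Spec (.of k)) (b : Y ⟶ Spec (.of k))
  [LocallyOfFiniteType a] [CompactSpace X] [LocallyOfFiniteType b] [CompactSpace Y]
  [∀ F : X.Modules, DCoh.HasLTensorMod ((Scheme.Modules.pullback (pullback.fst a b)).obj F)]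
  [DCoh.HasRpush (pullback.snd a b)]

/-- Part two: the transition maps are isomorphisms on cohomology in the stable range. -/
theorem isIso_of_points (K L : DCoh.D (pullback a b)) (f : K ⟶ L) (hK : DCoh.IsPerfect K)
    (hL : DCoh.IsPerfect L) (lo hi i : ℤ) (h₁ : lo ≤ i) (h₂ : i ≤ hi)
    (h : ∀ F : X.Modules, Coh.IsCoh F → (CohB1.support F).Finite →
      (∀ x ∈ CohB1.support F, IsClosed ({x} : Set X)) →
      (∀ j, lo ≤ j → j ≤ hi → IsIso ((DerivedCategory.homologyFunctor _ j).map
        ((DCoh.Rpush (pullback.snd a b)).map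
          ((DCoh.LTensorMod ((Scheme.Modules.pullback (pullback.fst a b)).obj F)).map f)))) ∧
      IsZero (DCoh.HD ((DCoh.Rpush (pullback.snd a b)).obj
        ((DCoh.LTensorMod ((Scheme.Modules.pullback (pullback.fst a b)).obj F)).obj K)) (hi + 1)) ∧
      IsZero (DCoh.HD ((DCoh.Rpush (pullback.snd a b)).obj
        ((DCoh.LTensorMod ((Scheme.Modules.pullback (pullback.fst a b)).obj F)).obj L)) (lo - 1))) :
    IsIso ((DerivedCategory.homologyFunctor _ i).map f) := by
  have : QuasiCompact a := HasAffineProperty.iff_of_isAffine.mpr ‹CompactSpace X›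
  have : QuasiCompact b := HasAffineProperty.iff_of_isAffine.mpr ‹CompactSpace Y›
  have : CompactSpace (pullback a b : Scheme.{u}) := QuasiCompact.compactSpace_of_compactSpace (pullback.fst a b)
  obtain ⟨C, g, d, hT⟩ := distinguished_cocone_triangle f
  have hC : DCoh.IsPerfect C := Perfect.Triangle.isPerfect₃ (T := Triangle.mk f g d) hT hK hL
  have key : ∀ j, lo - 1 ≤ j → j ≤ hi → IsZero (DCoh.HD C j) := fun j hj hj' =>
    isZero_HD_of_points a b C hC j fun F hF hf hc => by
      obtain ⟨hiso, hs, ht⟩ := h F hF hf hc
      refine isZero_HD_cone (pullback.snd a b) _ (Triangle.mk f g d) hT hK hL j ?_ ?_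
      · rcases lt_or_ge j lo with hlt | hge
        · obtain rfl : j = lo - 1 := by omega
          exact ⟨fun _ _ _ => ht.eq_of_src _ _⟩
        · have := hiso j hge hj'
          exact (inferInstance : Epi ((DerivedCategory.homologyFunctor _ j).map
            ((DCoh.Rpush (pullback.snd a b)).map
              ((DCoh.LTensorMod ((Scheme.Modules.pullback (pullback.fst a b)).obj F)).map f))))
      · rcases lt_or_ge j hi with hlt | hge
        · have := hiso (j + 1) (by omega) (by omega)
          exact (inferInstance : Mono ((DerivedCategory.homologyFunctor _ (j + 1)).map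
            ((DCoh.Rpush (pullback.snd a b)).map
              ((DCoh.LTensorMod ((Scheme.Modules.pullback (pullback.fst a b)).obj F)).map f))))
        · obtain rfl : j = hi := by omega
          exact ⟨fun _ _ _ => hs.eq_of_tgt _ _⟩
  have : Mono ((DerivedCategory.homologyFunctor _ i).map f) :=
    (DerivedCategory.HomologySequence.mono_homologyMap_mor₁_iff _ hT (i - 1) i (by lia)).2
      ((key (i - 1) (by omega) (by omega)).eq_of_src _ _)
  have : Epi ((DerivedCategory.homologyFunctor _ i).map f) :=
    (DerivedCategory.HomologySequence.epi_homologyMap_mor₁_iff _ hT i).2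
      ((key i (by omega) h₂).eq_of_tgt _ _)
  exact isIso_of_mono_of_epi _

end Groth.Agent.H83.BdPts
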